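-- copy of `SC2.E` avoiding a name clash (`Comp.syl_inf`) with `Sig.S4D`
/-
Product fusion in the language of strongly closed subgroups.
-/
import Cfsg.Agent.NCx.SC2D
set_option autoImplicit false
set_option linter.unusedSectionVars false

namespace CF.SC2
open Subgroup Cfsg CF.BG CF.Sig CF.GW CF.Ab2
open CF.ZD (LM LM_le mem_LM LM_le_iff LM_mono)
open scoped commutatorElement

universe u
section
variable {G : Type u} [Group G] [Finite G]
variable {A B C D E H K L M N P Q R S T U V W X Y Z : Subgroup G} {a b d g s t u v w x y z : G}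

/-- the conjugates of the elements of `S` -/
def cs (S : Subgroup G) : Set G := {x | ∃ g, g * x * g⁻¹ ∈ S}

theorem mem_cs (hx : x ∈ S) : x ∈ cs S := ⟨1, by simpa using hx⟩

theorem cs_conj (hx : x ∈ cs S) (g : G) : g * x * g⁻¹ ∈ cs S := by
  obtain ⟨k, hk⟩ := hx
  exact ⟨k * g⁻¹, by simpa [mul_assoc] using hk⟩

theorem cs_mem (h : IsStronglyClosed S T) (hx : x ∈ cs S) (m : g * x * g⁻¹ ∈ T) : g * x * g⁻¹ ∈ S := by
  obtain ⟨k, hk⟩ := hx
  have := h.2 _ hk (g * k⁻¹)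
  simp only [mul_inv_rev, inv_inv, mul_assoc, inv_mul_cancel_left] at this m ⊢
  exact this m

theorem cs_mem' (h : IsStronglyClosed S T) (hx : x ∈ cs S) (m : x ∈ T) : x ∈ S := by
  simpa using cs_mem (g := 1) h hx (by simpa using m)

theorem LM_cs_syl (h : IsStronglyClosed S T) : LM (cs S) T = S :=
  le_antisymm (LM_le_iff.2 fun _ => cs_mem' h) fun _ a => mem_LM (mem_cs a) (h.1 a)

theorem ss_cs (h : IsStronglyClosed S T) (hT : Syl 2 T ⊤) : SS (cs S) ⊤ := by
  refine ⟨mem_cs (one_mem _), fun {x} ⟨g, a⟩ => ?_, fun a _ _ => cs_conj a _, fun {P x y} l k a b c d => ?_⟩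
  · simpa [mul_assoc] using (hT.pi.elt (h.1 a)).conj g⁻¹
  obtain ⟨g, -, e⟩ := hT.syl_cj_le l k
  refine ⟨g, ?_⟩
  have := mul_mem (cs_mem h a (e (conj_mem_cj.2 c))) (cs_mem h b (e (conj_mem_cj.2 d)))
  simpa [mul_assoc] using this

theorem LM_cs : LM (cs S) ⊤ = normalClosure (S : Set G) := by
  refine le_antisymm (LM_le_iff.2 fun x ⟨g, a⟩ _ => ?_) (closure_mono fun x a => ⟨?_, mem_top x⟩)
  · simpa [mul_assoc] using normalClosure_normal.conj_mem _ (subset_normalClosure a) g⁻¹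
  obtain ⟨y, hy, c⟩ := Group.mem_conjugatesOfSet_iff.1 a
  obtain ⟨g, rfl⟩ := isConj_iff.1 c
  exact cs_conj (mem_cs hy) g

theorem cp_cs (h : IsStronglyClosed A T) (k : IsStronglyClosed B T) (hT : Syl 2 T ⊤)
    (c : ∀ a ∈ A, ∀ b ∈ B, a * b = b * a) : CP (cs A) (cs B) ⊤ := by
  refine ⟨ss_cs h hT, ss_cs k hT, fun {P x y} l p a b m n => ?_⟩
  obtain ⟨g, -, e⟩ := hT.syl_cj_le l p
  have := c _ (cs_mem h a (e (conj_mem_cj.2 m))) _ (cs_mem k b (e (conj_mem_cj.2 n)))
  simpa only [conj_mul, mul_left_inj, mul_right_inj] using this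

theorem cs_inter (h : IsStronglyClosed A T) (k : IsStronglyClosed B T) (hT : Syl 2 T ⊤) :
    cs A ∩ cs B ⊆ cs (A ⊓ B) := fun x ⟨a, b⟩ => by
  obtain ⟨g, -, e⟩ := (ss_cs h hT).into hT a (mem_top x)
  exact ⟨g, cs_mem h a e, cs_mem k b e⟩

/-- Goldschmidt's theorem on commuting strongly closed 2-subgroups -/
theorem pf (ly : LY.{u}) (h : IsStronglyClosed A T) (k : IsStronglyClosed B T) (hT : Syl 2 T ⊤)
    (c : ∀ a ∈ A, ∀ b ∈ B, a * b = b * a) :
    ⁅normalClosure (A : Set G), normalClosure (B : Set G)⁆ ≤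
      normalClosure ((A ⊓ B : Subgroup G) : Set G) ⊔ 𝒪 (⊤ : Subgroup G) := by
  rw [← LM_cs, ← LM_cs, ← LM_cs]
  exact ((cp_cs h k hT c).pf ly).trans (sup_le_sup_right (LM_mono' fun x a _ => cs_inter h k hT a) _)

theorem ncl_bot : normalClosure ((⊥ : Subgroup G) : Set G) = ⊥ := normalClosure_eq_self _

theorem pf_bot (ly : LY.{u}) (O : 𝒪 (⊤ : Subgroup G) = ⊥) (h : IsStronglyClosed A T) (k : IsStronglyClosed B T)
    (hT : Syl 2 T ⊤) (c : ∀ a ∈ A, ∀ b ∈ B, a * b = b * a) (i : A ⊓ B = ⊥) :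
    normalClosure (A : Set G) ≤ 𝐂 (normalClosure (B : Set G)) := by
  have := pf ly h k hT c
  rw [i, O, sup_bot_eq, ncl_bot, le_bot_iff] at this
  exact commutator_eq_bot_iff_le_centralizer.1 this

theorem sc_norm (h : IsStronglyClosed A T) (l : A ≤ U) (m : U ≤ T) : 𝐍 U ≤ 𝐍 A := fun g hg =>
  mem_norm_of_cj_le fun _ hx => by
    obtain ⟨x, a, rfl⟩ := mem_cj_iff.1 hx
    exact h.2 _ a g (m (conj_mem_of_norm hg (l a)))

theorem ncl_normal (A : Subgroup G) : normalClosure (A : Set G) ⊴ ⊤ := normalIn_top.2 inferInstance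

/-- a strongly closed subgroup with a central supplement in a Sylow subgroup of its normal closure is Sylow there -/
theorem syl_of_cent (h : IsStronglyClosed A T) (hT : Syl 2 T ⊤) (c : Z ≤ 𝐂 (normalClosure (A : Set G)))
    (e : T ⊓ normalClosure (A : Set G) ≤ A ⊔ Z) : T ⊓ normalClosure (A : Set G) = A := by
  have nN := ncl_normal A
  have l : A ≤ normalClosure (A : Set G) := le_normalClosure
  have lN : ∀ K : Subgroup G, K ⊴ ⊤ → A ≤ K → normalClosure (A : Set G) ≤ K := fun K n a => by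
    haveI := normalIn_top.1 n; exact normalClosure_le_normal a
  generalize normalClosure (A : Set G) = N at *
  have hs : Syl 2 (T ⊓ N) N := hT.inf_normal nN
  have nA : Z ≤ 𝐍 A := norm_of_cent (c.trans (cent_anti l))
  have f : T ⊓ N ⊓ ⁅N, N⁆ ≤ A := hs.focal fun x hx g hg m => by
    obtain ⟨s, hs, z, hz, rfl⟩ := (mem_sup_norm' nA).1 (e hx)
    have e1 : g * z = z * g := c hz g hg
    have e2 : g * (s * z) * g⁻¹ = g * s * g⁻¹ * z := by
      rw [show g * s * g⁻¹ * z = g * s * (g⁻¹ * (z * g)) * g⁻¹ by group, ← e1]; group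
    have zT : z ∈ T := by simpa using mul_mem (inv_mem (h.1 hs)) hx.1
    have m1 : g * s * g⁻¹ ∈ A := h.2 _ hs g (by simpa [e2] using mul_mem (mem_inf.1 m).1 (inv_mem zT))
    have : (s * z)⁻¹ * (g * (s * z) * g⁻¹) = z⁻¹ * (s⁻¹ * (g * s * g⁻¹)) * z⁻¹⁻¹ := by rw [e2]; group
    exact this ▸ conj_mem_of_norm (inv_mem (nA hz)) (mul_mem (inv_mem hs) m1)
  have nd : ⊤ ≤ 𝐍 ⁅N, N⁆ := nN.norm.trans (norm_der N)
  have n : N ≤ A ⊔ ⁅N, N⁆ := lN _ ⟨le_top, (hs.syl_frattini_sup nN).ge.trans (sup_le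
    (norm_of_der_le (sup_le l (der_le N)) le_sup_right)
    (norm_sup (inf_le_right.trans (sc_norm h (le_inf h.1 l) inf_le_left)) (le_top.trans nd)))⟩ le_sup_left
  refine le_antisymm ?_ (le_inf h.1 l)
  have := BG.inf_sup_left (N := ⁅N, N⁆) (le_inf h.1 l) (.inl (le_top.trans nd))
  exact (le_inf le_rfl (inf_le_right.trans n)).trans (this.le.trans (sup_le le_rfl f))

/-- product fusion -/
theorem prod (ly : LY.{u}) (O : 𝒪 (⊤ : Subgroup G) = ⊥) (h : IsStronglyClosed A T) (k : IsStronglyClosed B T)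
    (hT : Syl 2 T ⊤) (p : IsInternalDirectProduct A B T) :
    IsInternalDirectProduct (normalClosure (A : Set G)) (normalClosure (B : Set G))
      (normalClosure (A : Set G) ⊔ normalClosure (B : Set G)) ∧
      Syl 2 A (normalClosure (A : Set G)) ∧ Syl 2 B (normalClosure (B : Set G)) := by
  have c := pf_bot ly O h k hT p.2.2.1 p.2.2.2.1
  have cA : A ≤ 𝐂 B := le_normalClosure.trans (c.trans (cent_anti le_normalClosure))
  have e1 := syl_of_cent h hT (le_normalClosure.trans (cent_symm c)) (inf_le_left.trans p.2.2.2.2.ge)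
  have e2 := syl_of_cent k hT (le_normalClosure.trans c) (inf_le_left.trans (p.2.2.2.2.ge.trans (sup_comm _ _).le))
  have n := (ncl_normal A).inf (ncl_normal B)
  refine ⟨⟨le_sup_left, le_sup_right, fun a ha b hb => (c ha b hb).symm, ?_, rfl⟩,
    by simpa only [e1] using hT.inf_normal (ncl_normal A), by simpa only [e2] using hT.inf_normal (ncl_normal B)⟩
  have s := hT.inf_normal n
  rw [inf_inf_distrib_left, e1, e2, p.2.2.2.1] at s
  exact le_bot_iff.1 (O ▸ le_O n s.pi'_of_eq_bot)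

end
end CF.SC2
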