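-- copy of `SR.M3` avoiding a name clash (`Comp.syl_inf`) with `Sig.S4D`
/-
The four-generator theorem of MacWilliams.
-/
import Cfsg.Agent.NCx.SRM2
set_option autoImplicit false
set_option linter.unusedSectionVars false
set_option synthInstance.maxSize 20000

namespace CF.SR
open Subgroup Cfsg CF.BG CF.Sig CF.GW CF.Ab2 CF.MW
open scoped commutatorElement

variable {G : Type*} [Group G] [Finite G]
variable {K L S W : Subgroup G} {a b c d e g s t u w x y z : G}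

theorem comm_mem' (hx : x ∈ K) (hy : y ∈ K) : ⁅x, y⁆ ∈ K :=
  mul_mem (mul_mem (mul_mem hx hy) (inv_mem hx)) (inv_mem hy)

abbrev nn : M2 := ((0, 0), (1, 0))
abbrev ii : M2 := ((1, 0), (0, 1))

namespace F4
variable (H : F4 S W a b)
include H

theorem gdn : Gd S a b nn := ⟨by decide, by decide, fun t ht e s hs => by
  by_cases m : s ∈ TT S a b
  · rw [H.ty_conj m ht, e]
  · rw [H.ty_tau hs m ht, e]; decide⟩

theorem ty_comm (hg : g ∈ S) (m : g ∉ TT S a b) (ht : t ∈ TT S a b) :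
    g * t * g⁻¹ * t⁻¹ ∈ TT S a b ∧ ty a b (g * t * g⁻¹ * t⁻¹) = tau (ty a b t) + ty a b t :=
  ⟨mul_mem (H.conjT hg ht) (inv_mem ht), by rw [H.ty_mul (H.conjT hg ht) (inv_mem ht), H.ty_tau hg m ht, H.ty_inv ht]⟩

theorem cN (hc : c ∈ TT S a b) (k : c ∈ 𝐂 W) (p : M2) : c ∈ H.NN p := ⟨hc, .inl ((H.ty_zero hc).2 k)⟩

variable (hy : y ∈ TT S a b) (ey : ty a b y = ii)
include hy ey

theorem f1 (hx : x ∈ H.NN nn) : y * x * y⁻¹ * x ∈ UU a b := by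
  have k : ∀ x ∈ H.NN nn, y * x * (y * x) ∈ UU a b := fun x hx => by
    have h := mul_mem hy hx.1
    refine H.cfix h ?_ (mul_mem h.1 h.1) (H.sqC h) (by group)
    rw [H.ty_mul hy hx.1, ey]
    rcases hx.2 with e | e <;> rw [e] <;> decide
  have h1 := k 1 (one_mem _)
  rw [mul_one] at h1
  have h2 := mul_mem (k x hx) (inv_mem h1)
  rwa [show y * x * (y * x) * (y * y)⁻¹ = y * x * y⁻¹ * (y * y * x) * (y * y)⁻¹ by group, hx.1.2 _ h1,
    show y * x * y⁻¹ * (x * (y * y)) * (y * y)⁻¹ = y * x * y⁻¹ * x by group] at h2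

theorem f2 (hx : x ∈ H.NN nn) (hz : z ∈ H.NN nn) : Commute (qe (UU a b) x) (qe (UU a b) z) := by
  have : Inv (qe (UU a b) y) (qt (UU a b) (H.NN nn)) := fun v hv => by
    obtain ⟨x, hx, nx, rfl⟩ := mem_qt.1 hv
    have ny := H.n.norm hy.1
    rw [← qe_conj ny nx, eq_inv_iff_mul_eq_one, ← qe_mul (mul_mem (mul_mem ny nx) (inv_mem ny)) nx]
    exact qe_of_mem (H.f1 hy ey hx)
  exact this.abel.mul_comm (qe_mem_qt hx (H.n.norm hx.1.1)) (qe_mem_qt hz (H.n.norm hz.1.1))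

theorem f2' (hx : x ∈ H.NN nn) (hz : z ∈ H.NN nn) : ⁅x, z⁆ ∈ UU a b := by
  have nx := H.n.norm hx.1.1
  have nz := H.n.norm hz.1.1
  exact (qe_eq_one (comm_mem' nx nz)).1 ((qe_comm nx nz).trans (comm_eq_one (H.f2 hy ey hx hz)))

theorem f3 (hx : x ∈ H.NN nn) (hz : z ∈ H.NN nn) : Commute (x * x) z := comm_of_eq_one (by
  rw [comm_mul_l, conj_of_cent hx.1.2 (H.f2' hy ey hx hz), H.f.sq (H.f2' hy ey hx hz)])

omit hy ey in
theorem f4 (hs : s ∈ TT S a b) (e : ty a b s = nn) {k : ℕ} (h1 : s ^ 2 ^ k ∉ UU a b)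
    (h2 : s ^ 2 ^ (k + 1) ∈ UU a b) : s ^ 2 ^ k ∈ W ∧ s ^ 2 ^ k * s ^ 2 ^ k = a * a := by
  rw [pow2_succ] at h2
  have h3 := H.g4 H.gdn (pow_mem (show s ∈ H.NN nn from ⟨hs, .inr e⟩) _) (H.f.sq h2)
  have h4 := H.fix_act hs h3 (fix_zp (mul_inv_cancel_right s s) (pow_mem (mem_zpowers s) _))
  rw [e] at h4
  rcases (by decide : ∀ v, act nn v = 0 → v = 0 ∨ v = (1, 0)) _ h4 with r | r
  · exact absurd (H.om h3 (co_inj H.f h2 (one_mem _) (r.trans co_one.symm))) h1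
  · exact ⟨h3, co_inj H.f h2 (left_mem_V4 _ _) (r.trans (co_a H.f).symm)⟩

theorem f5 (hs : s ∈ TT S a b) (e : ty a b s = nn) : ∃ j, (∀ c ∈ TT S a b, c ∈ 𝐂 W → c ^ 2 ^ (j + 1) ∈ UU a b) ∧
    ∀ s ∈ TT S a b, ty a b s = nn → s ^ 2 ^ (j + 1) ∈ W ∧ s ^ 2 ^ (j + 1) * s ^ 2 ^ (j + 1) = a * a := by
  have q1 : ∀ x ∈ H.NN nn, ∀ k, x ^ k ∈ UU a b ↔ qe (UU a b) x ^ k = 1 := fun x hx k => by
    rw [← qe_pow (H.n.norm hx.1.1), qe_eq_one (pow_mem (H.n.norm hx.1.1) _)]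
  have q2 : ∀ x ∈ H.NN nn, ∀ z ∈ H.NN nn, ∀ k, qe (UU a b) (x * z) ^ k = qe (UU a b) x ^ k * qe (UU a b) z ^ k :=
    fun x hx z hz k => by rw [qe_mul (H.n.norm hx.1.1) (H.n.norm hz.1.1), (H.f2 hy ey hx hz).mul_pow]
  have q3 : ∀ s ∈ TT S a b, ty a b s = nn → ∀ k, s ^ 2 ^ k ∉ UU a b → s ^ 2 ^ (k + 1) ∈ UU a b →
      qe (UU a b) s ^ 2 ^ k = qe (UU a b) a := fun s hs e k h1 h2 => by
    obtain ⟨h3, h4⟩ := H.f4 hs e h1 h2
    rw [← qe_pow (H.n.norm hs.1), qe_eq_iff (H.n.norm (H.m.n.le h3)) (H.n.norm (H.m.n.le H.ha))]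
    exact H.sq_eq h3 H.ha h4
  classical
  have ex : ∃ k, ∃ s ∈ TT S a b, ty a b s = nn ∧ s ^ 2 ^ (k + 1) ∈ UU a b := by
    obtain ⟨k, -, h⟩ := exists_step (p := (· ∈ UU a b)) (H.e2 hs.1) (one_mem _) fun h =>
      H.g1 H.gdn hs e (mul_mem h h)
    exact ⟨k, s, hs, e, h⟩
  obtain ⟨s, hs, e, h⟩ := Nat.find_spec ex
  have mn := fun k => Nat.find_min ex (m := k)
  obtain ⟨j, hj⟩ : ∃ j, Nat.find ex = j + 1 := Nat.exists_eq_add_one.2 (Nat.pos_of_ne_zero fun r =>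
    H.g1 H.gdn hs e (by rw [r] at h; simpa [pow_two] using h))
  rw [hj] at h mn
  have mn : ∀ s ∈ TT S a b, ty a b s = nn → s ^ 2 ^ (j + 1) ∉ UU a b := fun s hs e h =>
    mn j (Nat.lt_succ_self j) ⟨s, hs, e, h⟩
  have sN : s ∈ H.NN nn := ⟨hs, .inr e⟩
  have c1 : ∀ c ∈ TT S a b, c ∈ 𝐂 W → c ^ 2 ^ (j + 1) ∈ UU a b := fun c hc k => by
    by_contra f
    obtain ⟨i, h1, h2⟩ := exists_step (p := (· ∈ UU a b)) (H.e2 (pow_mem hc.1 _)) (one_mem _) f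
    rw [pow_right_comm] at h1
    rw [← pow_mul, ← pow_add, show j + 1 + (i + 1) = i + (j + 1 + 1) by ring, pow_add, pow_mul] at h2
    have h3 := pow_mem hc (2 ^ i)
    have h4 := H.cN h3 (pow_mem k _) nn
    have h5 : ty a b (s * c ^ 2 ^ i) = nn := by rw [H.ty_mul hs h3, (H.ty_zero h3).2 (pow_mem k _), e, add_zero]
    generalize c ^ 2 ^ i = d at h1 h2 h3 h4 h5
    have h6 := q3 _ (mul_mem hs h3) h5 _ (mn _ (mul_mem hs h3) h5) (by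
      rw [q1 _ (mul_mem sN h4), q2 _ sN _ h4, (q1 _ sN _).1 h, (q1 _ h4 _).1 h2, mul_one])
    rw [q2 _ sN _ h4, q3 s hs e _ (mn s hs e) h, mul_eq_left, ← q1 _ h4] at h6
    exact h1 h6
  refine ⟨j, c1, fun r hr er => H.f4 hr er (mn r hr er) ?_⟩
  have h1 := mul_mem (inv_mem hs) hr
  have h2 := (H.ty_zero h1).1 (by rw [H.ty_mul (inv_mem hs) hr, H.ty_inv hs, e, er, m2_self])
  have h3 := H.cN h1 h2 nn
  rw [← mul_inv_cancel_left s r, q1 _ (mul_mem sN h3), q2 _ sN _ h3, (q1 _ sN _).1 h, one_mul, ← q1 _ h3, pow2_succ]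
  exact mul_mem (c1 _ h1 h2) (c1 _ h1 h2)

theorem hard (hg : g ∈ S) (m : g ∉ TT S a b) (hu : u ∈ TT S a b) (e1 : (ty a b u).1 = 0) (e2 : (ty a b u).2.2 = 1) :
    False := by
  obtain ⟨hs, es⟩ := H.ty_comm hg m hu
  rw [(by decide : ∀ p : M2, p.1 = 0 → p.2.2 = 1 → tau p + p = nn) _ e1 e2] at es
  obtain ⟨j, c1, c2⟩ := H.f5 hy ey hs es
  have eg : g * (u * u) * g⁻¹ = g * u * g⁻¹ * u⁻¹ * (g * u * g⁻¹ * u⁻¹) *
    ((g * u * g⁻¹ * u⁻¹)⁻¹ * (u * (g * u * g⁻¹ * u⁻¹) * u⁻¹)) * (u * u) := by group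
  generalize g * u * g⁻¹ * u⁻¹ = s at hs es eg
  obtain ⟨h1, h2⟩ := c2 s hs es
  have sN : s ∈ H.NN nn := ⟨hs, .inr es⟩
  have h3 : u * s ^ 2 ^ (j + 1) * u⁻¹ = s ^ 2 ^ (j + 1) := by
    rw [conj_eq_comm, mul_eq_right]
    refine co_inj H.f (H.cm hu h1) (one_mem _) ?_
    rw [← cs, H.co_cm hu h1, h2, cs, co_a H.f, co_one, act, e1]; simp
  have hc := mul_mem (inv_mem hs) (H.conjT hu.1 hs)
  have kc := (H.ty_zero hc).1 (by rw [H.ty_mul (inv_mem hs) (H.conjT hu.1 hs), H.ty_inv hs, H.ty_conj hu hs, m2_self])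
  have ec : u * s * u⁻¹ = s * (s⁻¹ * (u * s * u⁻¹)) := by group
  generalize s⁻¹ * (u * s * u⁻¹) = c at hc kc ec eg
  have cN := H.cN hc kc nn
  have h4 : c ^ 2 ^ j ∈ UU a b := by
    refine H.cinv (inv_mem hs) (by rw [H.ty_inv hs, es]; decide) (pow_mem hc.1 _) (pow_mem kc _) ?_
    have k1 := H.f2' hy ey (inv_mem sN) cN
    have k2 : Commute (s⁻¹ * c * s⁻¹⁻¹) c := by
      rw [conj_eq_comm]
      exact Commute.mul_left (hc.2 _ k1) rfl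
    have k3 : s⁻¹ * c * s⁻¹⁻¹ ∈ H.NN nn := mul_mem (mul_mem (inv_mem sN) cN) (inv_mem (inv_mem sN))
    rw [← conj_pow, ec, pow_succ', pow_mul, pow_mul, pow_two, pow_two,
      show s * c * (s * c) = s * s * (s⁻¹ * c * s⁻¹⁻¹ * c) by group,
      (H.f3 hy ey sN (mul_mem k3 cN)).mul_pow, mul_eq_left, k2.mul_pow, conj_pow] at h3
    exact eq_inv_of_mul_eq_one_left h3
  have u2 := mul_mem hu hu
  have uN := H.cN u2 (H.sqC hu) nn
  have h5 := c1 _ u2 (H.sqC hu)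
  rw [pow2_succ] at h5
  have h6 := H.m.m _ (pow_mem u2.1 _) (pow_mem (H.sqC hu) _) (H.f.sq h5)
  have h7 := H.fix_act hu h6 (by rw [← conj_pow]; congr 1; group)
  have nS : ∀ {x}, x ∈ H.NN nn → x ∈ 𝐍 (UU a b) := fun h => H.n.norm h.1.1
  have h8 : qe (UU a b) (g * (u * u) ^ 2 ^ j * g⁻¹) = qe (UU a b) (s ^ 2 ^ (j + 1) * (u * u) ^ 2 ^ j) := by
    have ss := mul_mem sN sN
    rw [← conj_pow, eg, qe_pow (nS (mul_mem (mul_mem ss cN) uN)), qe_mul (nS (mul_mem ss cN)) (nS uN),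
      (H.f2 hy ey (mul_mem ss cN) uN).mul_pow, qe_mul (nS ss) (nS cN), (H.f2 hy ey ss cN).mul_pow,
      ← qe_pow (nS cN), qe_of_mem h4, mul_one, qe_mul (nS (pow_mem sN _)) (nS (pow_mem uN _)), qe_pow (nS uN),
      ← qe_pow (nS ss), pow_succ', pow_mul, pow_two]
  generalize (u * u) ^ 2 ^ j = v at h5 h6 h7 h8
  generalize s ^ 2 ^ (j + 1) = r at h1 h2 h8
  have h9 := H.m.n.conj_mem hg h6
  have h10 := mul_mem h1 h6
  rw [qe_eq_iff (H.n.norm (H.m.n.le h9)) (H.n.norm (H.m.n.le h10))] at h8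
  have h11 := sq_mul_cent (H.wt h9).2 (fun _ => H.f.sq) h8
  rw [mul_inv_cancel_left, conj_mul, mul_assoc r, ← mul_assoc v, H.m.a.mul_comm h6 h1, mul_assoc r, ← mul_assoc r,
    h2] at h11
  have := congrArg (cs a b) h11
  rw [H.co_conj hg m h5, cs, co_mul H.f (left_mem_V4 _ _) h5, co_a H.f] at this
  exact (by decide : ∀ (p : M2) v, p.1 = 0 → p.2.2 = 1 → act p v = 0 → (1, 0) + v ≠ nu v) _ _ e1 e2 h7 this

omit hy ey

theorem srk_of {p : M2} (D : Gd S a b p) (h : QR 4 (H.NN p) S) : SRk 16 S := h.srk ((H.g2 D).mono inf_le_right)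

theorem NN_zero : SRk 4 (H.NN 0) := fun _ _ l q => (rel_nr q fun _ hx _ hc e =>
  H.cinv (l hx).1 (by rw [(l hx).2.elim id id]; decide) (l hc).1.1
    ((H.ty_zero (l hc).1).1 ((l hc).2.elim id id)) e).trans H.f.card.le

theorem case1 (l : S ≤ TT S a b) : SRk 16 S := by
  have gd : ∀ p, p ≠ 0 → good p → Gd S a b p := fun p h1 h2 => ⟨h1, h2, fun t ht e s hs => by
    rw [H.ty_conj (l hs) ht, e]⟩
  by_cases h : ∃ t ∈ S, ty a b t ≠ 0 ∧ good (ty a b t)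
  · obtain ⟨t, ht, h1, h2⟩ := h
    refine H.srk_of (gd _ h1 h2) (qr_idx ?_)
    have h3 := H.idx (p := 0) l (fun q => q ≠ 0 → good q → ¬ reg q) (fun r hr a1 a2 => H.g3 (gd _ a1 a2) (l hr) rfl)
      (fun q => (q.2.1 + q.1.2, q.1.1 + q.2.2 + q.2.1, q.1.1)) (by decide)
    have h4 : H.NN 0 ≤ H.NN (ty a b t) := fun x hx => ⟨hx.1, .inl (hx.2.elim id id)⟩
    rw [← relIndex_mul_relIndex _ _ _ h4 fun x hx => hx.1.1] at h3
    have h5 : (H.NN 0).relIndex (H.NN (ty a b t)) ≠ 1 := fun e =>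
      h1 ((relIndex_eq_one.1 e (show t ∈ H.NN _ from ⟨l ht, .inr rfl⟩)).2.elim id id)
    have h6 := relIndex_pos (H.NN 0) (H.NN (ty a b t))
    simp only [Nat.card_prod, Nat.card_zmod] at h3
    by_contra c
    nlinarith [show 2 ≤ (H.NN 0).relIndex (H.NN (ty a b t)) by omega]
  push Not at h
  refine QR.srk (m := 4) (qr_idx ?_) (H.NN_zero.mono inf_le_right)
  by_cases k : ∃ y ∈ S, ty a b y = ii
  · obtain ⟨y, hy, ey⟩ := k
    simpa using H.idx (p := 0) l (fun q => (q ≠ 0 → ¬ good q) ∧ (ii + q ≠ 0 → ¬ good (ii + q)))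
      (fun r hr => ⟨h r hr, by rw [← ey, ← H.ty_mul (l hy) (l hr)]; exact h _ (mul_mem hy hr)⟩)
      (fun q => (q.1.1, q.2.2)) (by decide)
  · push Not at k
    simpa using H.idx (p := 0) l (fun q => (q ≠ 0 → ¬ good q) ∧ q ≠ ii) (fun r hr => ⟨h r hr, k r hr⟩)
      (fun q => (q.2.1 + q.1.2, q.1.1 + q.2.2 + q.2.1)) (by decide)

theorem idxT (l : L ≤ S) : (TT S a b).relIndex L ≤ 2 := by
  refine (rel_l (K := 𝐂₁ (b * b)) (L := TT S a b) _ fun x hx =>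
    ⟨l hx.1, by rw [cent_V4]; exact ⟨H.z (l hx.1), hx.2⟩⟩).trans
    ((rel_cent fun s hs => ?_).trans H.f.l.card.le)
  by_cases m : s ∈ TT S a b
  · rw [comm_eq_one (m.2 _ (right_mem_V4 _ _)).symm]; exact one_mem _
  · have := H.co_conj (l hs) m (right_mem_V4 _ _)
    rw [cs, cs, co_b H.f, show nu (0, 1) = (1, 1) by decide, ← co_ab H.f] at this
    rw [commutatorElement_def, co_inj H.f (H.n.conj_mem (l hs) (right_mem_V4 _ _))
      (mul_mem (left_mem_V4 _ _) (right_mem_V4 _ _)) this, mul_inv_cancel_right]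
    exact mem_zpowers _

theorem case2 (hg : g ∈ S) (m : g ∉ TT S a b) : SRk 16 S := by
  refine H.srk_of H.gdn ?_
  have sp : ∀ L ≤ S, ∀ n, (H.NN nn).relIndex (L ⊓ TT S a b) ≤ n → (H.NN nn).relIndex L ≤ n * 2 := fun L l n h =>
    (split _ L _).trans (Nat.mul_le_mul h (H.idxT l))
  by_cases h : ∃ u ∈ TT S a b, (ty a b u).1.2 = 0 ∧ (ty a b u).1.1 + (ty a b u).2.2 = 1
  · obtain ⟨u, hu, e1, e2⟩ := h
    have k : ∀ y ∈ TT S a b, ty a b y ≠ ii := fun y hy ey => by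
      rcases (by decide : ∀ p : M2, p.1.2 = 0 → p.1.1 + p.2.2 = 1 →
        p.1 = 0 ∧ p.2.2 = 1 ∨ (ii + p).1 = 0 ∧ (ii + p).2.2 = 1) _ e1 e2 with r | r
      · exact H.hard hy ey hg m hu r.1 r.2
      · rw [← ey, ← H.ty_mul hy hu] at r
        exact H.hard hy ey hg m (mul_mem hy hu) r.1 r.2
    obtain ⟨hs, es⟩ := H.ty_comm hg m hu
    rw [(by decide : ∀ p : M2, p.1.2 = 0 → p.1.1 + p.2.2 = 1 → tau p + p = nn) _ e1 e2] at es
    have k' : ∀ y ∈ TT S a b, ty a b y ≠ ii ∧ nn + ty a b y ≠ ii := fun y hy =>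
      ⟨k y hy, by rw [← es, ← H.ty_mul hs hy]; exact k _ (mul_mem hs hy)⟩
    refine qr_idx (sp S le_rfl 2 ?_)
    simpa using H.idx (p := nn) (L := S ⊓ TT S a b) inf_le_right
      (fun q => (q ≠ ii ∧ nn + q ≠ ii) ∧ tau q + q ≠ ii ∧ nn + (tau q + q) ≠ ii)
      (fun r hr => ⟨k' r hr.2, (H.ty_comm hg m hr.2).2 ▸ k' _ (H.ty_comm hg m hr.2).1⟩)
      (fun q => q.1.1 + q.2.2) (by decide)
  push Not at h
  have k : ∀ L ≤ TT S a b, (H.NN nn).relIndex L ≤ 4 := fun L l => by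
    simpa using H.idx (p := nn) l (fun q => q.1.2 = 0 → q.1.1 + q.2.2 ≠ 1) (fun r hr => h r (l hr))
      (fun q => (q.1.2, q.1.1)) (by decide)
  refine qr_eight (sp S le_rfl 4 (k _ inf_le_right)) fun L l q => ?_
  by_cases f : L ≤ TT S a b
  · exact k L f
  obtain ⟨g, hg, m⟩ := SetLike.not_le_iff_exists.1 f
  refine sp L l 2 ?_
  simpa using H.idx (p := nn) (L := L ⊓ TT S a b) inf_le_right
    (fun q => (q.1.2 = 0 → q.1.1 + q.2.2 ≠ 1) ∧ (tau q + q = 0 ∨ tau q + q = nn))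
    (fun r hr => ⟨h r hr.2, (H.ty_comm (l hg) m hr.2).2 ▸ (q.comm hg hr.1).2⟩) (fun q => q.1.1) (by decide)

theorem main : SRk 16 S := by
  by_cases l : S ≤ TT S a b
  · exact H.case1 l
  · obtain ⟨g, hg, m⟩ := SetLike.not_le_iff_exists.1 l
    exact H.case2 hg m

end F4

theorem srk_m4 (k : P2 S) (h : M4 S W) : SRk (♯(𝛀 2 W)) (S ⊓ 𝐂 W) := fun _ _ l q => rel_nr q fun x hx c hc e => by
  have o := fun d (hd : d ∈ zpowers c) => h.m d (zpowers_le.2 (l hc).1 hd) (zpowers_le.2 (l hc).2 hd)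
  have := sq_one (k.elt (l hc).1) fun d hd f => by
    have := inv_zp e hd
    rwa [conj_of_cent (l hx).2 (o d hd f), eq_inv_iff_mul_eq_one] at this
  exact (mem_om h.a).2 ⟨o c (mem_zpowers c) (by rw [this, mul_one]), this⟩

/-- MacWilliams: a `2`-group without normal elementary abelian subgroups of order `8` has sectional rank `≤ 4` -/
theorem four_gen_thm (k : P2 S) (ne : NE S) : SRk 16 S := by
  obtain ⟨W, -, h⟩ := exists_m4 k (NormalIn.bot S) abel_bot (by simp)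
  have n := h.n.Om 2
  have e : ∀ u ∈ 𝛀 2 W, u * u = 1 := fun u hu => ((mem_om h.a).1 hu).2
  have c := ne _ n e
  have sq : ∀ x ∈ W, ∀ y ∈ W, x * x = y * y → x⁻¹ * y ∈ 𝛀 2 W := fun x hx y hy e =>
    (mem_om h.a).2 ⟨mul_mem (inv_mem hx) hy, by
      rw [mul_assoc, ← mul_assoc y, h.a.mul_comm hy (inv_mem hx), mul_assoc, ← e]; group⟩
  have sU : ∀ w ∈ W, w * w ∈ 𝛀 2 W := fun w hw => (mem_om h.a).2 ⟨mul_mem hw hw, h.e w hw⟩
  by_cases f : ∃ a ∈ W, ∃ b ∈ W, FP (a * a) (b * b)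
  · obtain ⟨a, ha, b, hb, F⟩ := f
    have c4 : ♯(𝛀 2 W) = 4 := le_antisymm c (F.card ▸ card_le (V4_le.2 ⟨sU a ha, sU b hb⟩))
    obtain ⟨z, y, F', V, zc, -⟩ := four_gen k n e c4
    have r : ∀ u ∈ 𝛀 2 W, ∃ w ∈ W, w * w = u := fun u hu => by
      rw [← v4_eq c4 F (sU a ha) (sU b hb), F.mem] at hu
      rcases hu with rfl | rfl | rfl | rfl
      exacts [⟨1, one_mem _, mul_one _⟩, ⟨a, ha, rfl⟩, ⟨b, hb, rfl⟩, ⟨_, mul_mem ha hb, by
        rw [mul_assoc, ← mul_assoc b, ← h.a.mul_comm ha hb]; group⟩]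
    obtain ⟨a, ha, rfl⟩ := r z (V.le (left_mem_V4 _ _))
    obtain ⟨b, hb, rfl⟩ := r y (V.le (right_mem_V4 _ _))
    exact F4.main ⟨k, ne, h, ha, hb, F', zc⟩
  obtain ⟨a, ha, r⟩ : ∃ a ∈ W, ∀ w ∈ W, w * w = 1 ∨ w * w = a * a := by
    by_cases r : ∃ a ∈ W, a * a ≠ 1
    · obtain ⟨a, ha, r⟩ := r
      refine ⟨a, ha, fun w hw => ?_⟩
      by_contra! j
      exact f ⟨w, hw, a, ha, fp_of e (sU w hw) (sU a ha) j.1 r j.2⟩
    · push Not at r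
      exact ⟨1, one_mem _, fun w hw => .inl (r w hw)⟩
  have ca : ∀ s ∈ S, ⁅s, a⁆ ∈ 𝛀 2 W := fun s hs => by
    have h1 := h.n.conj_mem hs ha
    have h2 : s * a * s⁻¹ * (s * a * s⁻¹) = a * a := (r _ h1).elim (fun j => by
      rw [j, eq_comm]; simpa [conj_mul] using j) id
    rw [commutatorElement_def, h.a.mul_comm h1 (inv_mem ha)]
    exact sq _ ha _ h1 h2.symm
  have l : S ⊓ (𝐂 (𝛀 2 W) ⊓ 𝐂₁ a) ≤ 𝐂 W := fun s hs w hw => by
    rcases r w hw with j | j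
    · exact hs.2.1 w ((mem_om h.a).2 ⟨hw, j⟩)
    · rw [← mul_inv_cancel_left a w, mul_assoc, hs.2.1 _ (sq _ ha _ hw j.symm), ← mul_assoc,
        ← mem_cent1.1 hs.2.2, mul_assoc]
  by_cases c4 : ♯(𝛀 2 W) = 4
  · exact ((d8 k n e c4 ca).2.mono l).srk (c4 ▸ srk_m4 k h)
  · have l' : S ≤ 𝐂 (𝛀 2 W) := fun s hs u hu => by
      by_contra j
      have u1 : u ≠ 1 := fun r => j (by rw [r, mul_one, one_mul])
      have F := fp_of e hu (n.conj_mem hs hu) u1 (by simpa using u1) fun r => j (eq_mul_inv_iff_mul_eq.1 r)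
      exact c4 (le_antisymm c (F.card ▸ card_le (V4_le.2 ⟨hu, n.conj_mem hs hu⟩)))
    have := (qr_idx ((rel_l (K := 𝐂₁ a) S fun s hs => l ⟨hs.1, l' hs.1, hs.2⟩).trans (rel_cent ca))).srk (srk_m4 k h)
    exact fun A B x y => (this A B x y).trans (by nlinarith)

end CF.SR
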